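import Groth.Prelude.Def_Neron
import Groth.Agent.Lib.AbRigid.Epi
import Groth.Agent.Lib.WeilEq.Represent
import Mathlib.AlgebraicGeometry.Morphisms.SchemeTheoreticallyDominant

/-!
# Generic fibres of flat schemes over a domain
-/

universe u

open CategoryTheory Limits AlgebraicGeometry

namespace Groth.Agent.NeronElem

variable (R : Type u) [CommRing R] [IsDomain R]

instance genPt_dominant : IsSchemeTheoreticallyDominant (Neron.genPt R) :=
  WeilEq.isSchemeTheoreticallyDominant_SpecMap _ (IsFractionRing.injective R (FractionRing R))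

/-- The generic fibre of a flat scheme is schematically dominant in it. -/
theorem dominant_fst (X : Over (Spec (CommRingCat.of R))) [Flat X.hom] :
    IsSchemeTheoreticallyDominant (pullback.fst X.hom (Neron.genPt R)) := inferInstance

theorem fst_comp_left {X Y : Over (Spec (CommRingCat.of R))} (f : X ⟶ Y) :
    ((Neron.genericFibre R).map f).left ≫ pullback.fst Y.hom (Neron.genPt R) =
      pullback.fst X.hom (Neron.genPt R) ≫ f.left :=
  pullback.lift_fst _ _ _

theorem eq_of_map_eq (X Y : Over (Spec (CommRingCat.of R))) [Flat X.hom] [IsSeparated Y.hom] (f g : X ⟶ Y)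
    (h : (Neron.genericFibre R).map f = (Neron.genericFibre R).map g) : f = g := by
  haveI := dominant_fst R X
  ext1
  refine AbRigid.eq_of_comp_eq_of_ker_eq_bot (pullback.fst X.hom (Neron.genPt R))
    (Scheme.Hom.ker_eq_bot _) Y.hom f.left g.left ((Over.w f).trans (Over.w g).symm) ?_
  rw [← fst_comp_left, ← fst_comp_left, h]

theorem genericFibre_hom_ext {T : Over (Spec (CommRingCat.of (FractionRing R)))} {Y : Over (Spec (CommRingCat.of R))}
    {a b : T ⟶ (Neron.genericFibre R).obj Y}
    (h : a.left ≫ pullback.fst Y.hom (Neron.genPt R) = b.left ≫ pullback.fst Y.hom (Neron.genPt R)) : a = b := by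
  ext1
  refine pullback.hom_ext h ?_
  have ha := Over.w a
  have hb := Over.w b
  exact ha.trans hb.symm

/-- A closed smooth subscheme of a scheme with the Néron mapping property has it. -/
theorem exists_lift_closed (X G Y : Over (Spec (CommRingCat.of R))) (i : G ⟶ X) [IsClosedImmersion i.left]
    [Flat Y.hom] (a : (Neron.genericFibre R).obj Y ⟶ (Neron.genericFibre R).obj G) (g : Y ⟶ X)
    (hg : (Neron.genericFibre R).map g = a ≫ (Neron.genericFibre R).map i) :
    ∃ h : Y ⟶ G, (Neron.genericFibre R).map h = a := by
  haveI := dominant_fst R Y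
  set π := pullback.fst Y.hom (Neron.genPt R)
  have hfac : π ≫ g.left = (a.left ≫ pullback.fst G.hom (Neron.genPt R)) ≫ i.left := by
    rw [Category.assoc, ← fst_comp_left, hg, Over.comp_left, Category.assoc, fst_comp_left]
  have hker : i.left.ker ≤ g.left.ker := by
    calc i.left.ker ≤ ((a.left ≫ pullback.fst G.hom (Neron.genPt R)) ≫ i.left).ker := Scheme.Hom.le_ker_comp _ _
      _ = (π ≫ g.left).ker := by rw [hfac]
      _ = g.left.ker := by rw [Scheme.Hom.ker_comp, π.ker_eq_bot, Scheme.IdealSheafData.map_bot]
  let h : Y ⟶ G := Over.homMk (IsClosedImmersion.lift i.left g.left hker) (by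
    show _ ≫ G.hom = _
    rw [← Over.w i, IsClosedImmersion.lift_fac_assoc, Over.w])
  refine ⟨h, genericFibre_hom_ext R ?_⟩
  rw [fst_comp_left, ← cancel_mono i.left, ← hfac, Category.assoc]
  show π ≫ IsClosedImmersion.lift i.left g.left hker ≫ i.left = _
  rw [IsClosedImmersion.lift_fac]

end Groth.Agent.NeronElem
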